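import Mathlib.Algebra.Field.Basic
import Mathlib.Data.Fintype.Pi
import Mathlib.Data.Fin.VecNotation
import Mathlib.Data.Fintype.Basic
import Mathlib.Algebra.Group.Basic

/-! A computable field with eight elements. -/

set_option autoImplicit false

namespace Cfsg.Agent.Sz83

/-- The field with eight elements, as bit triples modulo `x³ + x + 1`. -/
structure F8 where
  /-- the code -/
  v : Fin 8
deriving DecidableEq

instance : Fintype F8 := Fintype.ofEquiv (Fin 8) ⟨F8.mk, F8.v, fun _ => rfl, fun _ => rfl⟩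

def addTab (a b : Fin 8) : Fin 8 := ⟨(a.val ^^^ b.val) % 8, Nat.mod_lt _ (by decide)⟩

def mulTab (a b : Fin 8) : Fin 8 :=
  ⟨(2821848294356612419217921029917578219971947684264937521152 >>> (3 * (8 * a.val + b.val))) % 8, Nat.mod_lt _ (by decide)⟩

def invTab (a : Fin 8) : Fin 8 := ⟨(9272648 >>> (3 * a.val)) % 8, Nat.mod_lt _ (by decide)⟩

namespace F8

instance : Zero F8 := ⟨⟨0⟩⟩
instance : One F8 := ⟨⟨1⟩⟩
instance : Add F8 := ⟨fun a b => ⟨addTab a.v b.v⟩⟩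
instance : Mul F8 := ⟨fun a b => ⟨mulTab a.v b.v⟩⟩
instance : Neg F8 := ⟨fun a => a⟩
instance : Inv F8 := ⟨fun a => ⟨invTab a.v⟩⟩

theorem add_assoc' : ∀ a b c : F8, a + b + c = a + (b + c) := by
  have h : ∀ a b c : Fin 8, (F8.mk a) + (F8.mk b) + (F8.mk c) = (F8.mk a) + ((F8.mk b) + (F8.mk c)) := by
    decide +kernel
  exact fun ⟨a⟩ ⟨b⟩ ⟨c⟩ => h a b c
theorem add_comm' : ∀ a b : F8, a + b = b + a := by
  have h : ∀ a b : Fin 8, (F8.mk a) + (F8.mk b) = (F8.mk b) + (F8.mk a) := by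
    decide +kernel
  exact fun ⟨a⟩ ⟨b⟩ => h a b
theorem zero_add' : ∀ a : F8, 0 + a = a := by
  have h : ∀ a : Fin 8, 0 + (F8.mk a) = (F8.mk a) := by
    decide +kernel
  exact fun ⟨a⟩ => h a
theorem add_zero' : ∀ a : F8, a + 0 = a := by
  have h : ∀ a : Fin 8, (F8.mk a) + 0 = (F8.mk a) := by
    decide +kernel
  exact fun ⟨a⟩ => h a
theorem neg_add' : ∀ a : F8, -a + a = 0 := by
  have h : ∀ a : Fin 8, -(F8.mk a) + (F8.mk a) = 0 := by
    decide +kernel
  exact fun ⟨a⟩ => h a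
theorem mul_assoc' : ∀ a b c : F8, a * b * c = a * (b * c) := by
  have h : ∀ a b c : Fin 8, (F8.mk a) * (F8.mk b) * (F8.mk c) = (F8.mk a) * ((F8.mk b) * (F8.mk c)) := by
    decide +kernel
  exact fun ⟨a⟩ ⟨b⟩ ⟨c⟩ => h a b c
theorem mul_comm' : ∀ a b : F8, a * b = b * a := by
  have h : ∀ a b : Fin 8, (F8.mk a) * (F8.mk b) = (F8.mk b) * (F8.mk a) := by
    decide +kernel
  exact fun ⟨a⟩ ⟨b⟩ => h a b
theorem one_mul' : ∀ a : F8, 1 * a = a := by
  have h : ∀ a : Fin 8, 1 * (F8.mk a) = (F8.mk a) := by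
    decide +kernel
  exact fun ⟨a⟩ => h a
theorem mul_one' : ∀ a : F8, a * 1 = a := by
  have h : ∀ a : Fin 8, (F8.mk a) * 1 = (F8.mk a) := by
    decide +kernel
  exact fun ⟨a⟩ => h a
theorem left_distrib' : ∀ a b c : F8, a * (b + c) = a * b + a * c := by
  have h : ∀ a b c : Fin 8, (F8.mk a) * ((F8.mk b) + (F8.mk c)) = (F8.mk a) * (F8.mk b) + (F8.mk a) * (F8.mk c) := by
    decide +kernel
  exact fun ⟨a⟩ ⟨b⟩ ⟨c⟩ => h a b c
theorem right_distrib' : ∀ a b c : F8, (a + b) * c = a * c + b * c := by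
  have h : ∀ a b c : Fin 8, ((F8.mk a) + (F8.mk b)) * (F8.mk c) = (F8.mk a) * (F8.mk c) + (F8.mk b) * (F8.mk c) := by
    decide +kernel
  exact fun ⟨a⟩ ⟨b⟩ ⟨c⟩ => h a b c
theorem zero_mul' : ∀ a : F8, 0 * a = 0 := by
  have h : ∀ a : Fin 8, 0 * (F8.mk a) = 0 := by
    decide +kernel
  exact fun ⟨a⟩ => h a
theorem mul_zero' : ∀ a : F8, a * 0 = 0 := by
  have h : ∀ a : Fin 8, (F8.mk a) * 0 = 0 := by
    decide +kernel
  exact fun ⟨a⟩ => h a
theorem mul_inv' : ∀ a : F8, a ≠ 0 → a * a⁻¹ = 1 := by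
  have h : ∀ a : Fin 8, (F8.mk a) ≠ 0 → (F8.mk a) * (F8.mk a)⁻¹ = 1 := by
    decide +kernel
  exact fun ⟨a⟩ => h a
theorem inv_zero' : (0 : F8)⁻¹ = 0 := by decide +kernel

instance : Field F8 where
  add_assoc := add_assoc'
  zero_add := zero_add'
  add_zero := add_zero'
  add_comm := add_comm'
  neg_add_cancel := neg_add'
  mul_assoc := mul_assoc'
  one_mul := one_mul'
  mul_one := mul_one'
  left_distrib := left_distrib'
  right_distrib := right_distrib'
  zero_mul := zero_mul'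
  mul_zero := mul_zero'
  mul_comm := mul_comm'
  exists_pair_ne := ⟨0, 1, by decide +kernel⟩
  mul_inv_cancel := mul_inv'
  inv_zero := inv_zero'
  nsmul := nsmulRec
  zsmul := zsmulRec
  nnqsmul := _
  qsmul := _

theorem card_eq : Fintype.card F8 = 8 := by decide +kernel

/-- A generator of the multiplicative group. -/
def α : F8ˣ := ⟨⟨2⟩, ⟨5⟩, by decide +kernel, by decide +kernel⟩

end F8

end Cfsg.Agent.Sz83
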