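import Cfsg.Agent.Lib.PrimeGraphSz83.Powers
import Mathlib.GroupTheory.Sylow

/-! The prime graph of `V ⋊ (Sz(8) ⋊ 3)`. -/

set_option autoImplicit false
set_option maxRecDepth 20000

namespace Cfsg.Agent.Sz83

open Matrix SemidirectProduct

/-- An element of order 13. -/
def y13 : S := Suzuki.W hF * Suzuki.T hF 0 ⟨3⟩

/-- An element of order 5 fixed by the field automorphisms. -/
def y5 : S := Suzuki.W hF * Suzuki.T hF 0 1

/-- An element of order 7. -/
def z7 : S := Suzuki.H hF F8.α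

/-- A table of powers is right. -/
structure IsPow {n : ℕ} [NeZero n] (y : S) (P : Fin n → M4) : Prop where
  zero : P 0 = 1
  step : ∀ i : Fin n, P i * mat y = P (i + 1)

theorem IsPow.pow {n : ℕ} [NeZero n] {y : S} {P : Fin n → M4} (h : IsPow y P) :
    ∀ i : ℕ, mat (y ^ i) = P (Fin.ofNat n i) := by
  intro i
  induction i with
  | zero => rw [pow_zero]; exact h.zero.symm
  | succ i ih =>
    rw [pow_succ]
    show mat (y ^ i) * mat y = _
    rw [ih, h.step]
    congr 1
    apply Fin.ext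
    simp [Fin.val_add, Nat.add_mod]

theorem IsPow.orderOf_eq {p : ℕ} [hp : Fact p.Prime] {y : S} {P : Fin p → M4} (h : IsPow y P)
    (h1 : mat y ≠ 1) : orderOf y = p := by
  refine orderOf_eq_prime (Subtype.ext (Subtype.ext ?_)) (fun e => h1 (by rw [e]; rfl))
  show mat (y ^ p) = 1
  rw [h.pow p, show Fin.ofNat p p = 0 from Fin.ext (by simp), h.zero]

instance : Fact (Nat.Prime 13) := ⟨by norm_num⟩
instance : Fact (Nat.Prime 7) := ⟨by norm_num⟩
instance : Fact (Nat.Prime 5) := ⟨by norm_num⟩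

theorem isPow13 : IsPow y13 y13Pow := ⟨by decide +kernel, by decide +kernel⟩
theorem isPow5 : IsPow y5 y5Pow := ⟨by decide +kernel, by decide +kernel⟩
theorem isPow7 : IsPow z7 z7Pow := ⟨by decide +kernel, by decide +kernel⟩

theorem ord13 : orderOf y13 = 13 := isPow13.orderOf_eq (by decide +kernel)
theorem ord5 : orderOf y5 = 5 := isPow5.orderOf_eq (by decide +kernel)
theorem ord7 : orderOf z7 = 7 := isPow7.orderOf_eq (by decide +kernel)

theorem trace13 : ∀ e : C3, e ≠ 1 → ∀ x : F8, x = (mat y13).trace → x ^ ex e ≠ x := by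
  have h : ∀ e : ZMod 3, e ≠ 0 → ((mat y13).trace) ^ (2 ^ e.val) ≠ (mat y13).trace := by decide +kernel
  rintro e he _ rfl
  exact h e.toAdd he

theorem trace7 : ∀ e : C3, e ≠ 1 → ∀ x : F8, x = (mat z7).trace → x ^ ex e ≠ x := by
  have h : ∀ e : ZMod 3, e ≠ 0 → ((mat z7).trace) ^ (2 ^ e.val) ≠ (mat z7).trace := by decide +kernel
  rintro e he _ rfl
  exact h e.toAdd he

theorem norm13 : ∀ a b c d : Fin 4, ∑ i : Fin 13, y13Pow i a b * sq (y13Pow i) c d = 0 := by
  decide +kernel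

theorem norm7 : ∑ i : Fin 7, z7Pow i 0 0 * sq (z7Pow i) 1 1 ≠ 0 := by decide +kernel

theorem norm5 : ∑ i : Fin 5, y5Pow i 0 0 * sq (y5Pow i) 0 3 ≠ 0 := by decide +kernel

theorem fixed5 : ∀ e : C3, ψ e y5 = y5 := by
  have h : ∀ a : Fin 4, ∀ b : Fin 4, decide ((mat y5 a b : F8) * mat y5 a b = mat y5 a b) = true := by
    decide +kernel
  have h' : ∀ (n : ℕ) (a b : Fin 4), (mat y5 a b : F8) ^ 2 ^ n = mat y5 a b := fun n a b => by
    induction n with
    | zero => simp
    | succ n ih =>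
      rw [pow_succ, pow_mul, ih, pow_two]
      exact of_decide_eq_true (h a b)
  exact fun e => Subtype.ext (Subtype.ext (Matrix.ext fun a b => h' e.toAdd.val a b))

/-! ### The Suzuki group -/

theorem card_S : Nat.card S = 29120 := by
  rw [Suzuki.card_Sz hF]; norm_num

theorem exists_conj_pow {p : ℕ} (hp : p.Prime) (hd : ¬ p ^ 2 ∣ 29120) {x y : S} (hx : orderOf x = p)
    (hy : orderOf y = p) : ∃ (u : S) (j : ℕ), u * x * u⁻¹ = y ^ j ∧ j.Coprime p := by
  haveI : Fact p.Prime := ⟨hp⟩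
  have hpart : p ^ (Nat.card S).factorization p = p := by
    have h1 : p ∣ 29120 := card_S ▸ hx ▸ orderOf_dvd_natCard x
    have h2 : (29120 : ℕ).factorization p = 1 := by
      refine le_antisymm ?_ (hp.factorization_pos_of_dvd (by norm_num) h1)
      by_contra hc
      exact hd ((pow_dvd_pow p (Nat.succ_le_of_lt (not_le.1 hc))).trans (Nat.ordProj_dvd _ _))
    rw [card_S, h2, pow_one]
  let P : Sylow p S := Sylow.ofCard (Subgroup.zpowers x) (by rw [Nat.card_zpowers, hx, hpart])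
  let Q : Sylow p S := Sylow.ofCard (Subgroup.zpowers y) (by rw [Nat.card_zpowers, hy, hpart])
  obtain ⟨u, hu⟩ := MulAction.exists_smul_eq S P Q
  have hm : u * x * u⁻¹ ∈ Subgroup.zpowers y := by
    have h1 : u * x * u⁻¹ ∈ ((u • P : Sylow p S) : Subgroup S) := by
      rw [Sylow.coe_subgroup_smul]
      exact ⟨x, Subgroup.mem_zpowers x, rfl⟩
    rw [hu] at h1
    exact h1
  obtain ⟨j, hj⟩ := mem_powers_iff_mem_zpowers.2 hm
  refine ⟨u, j, hj.symm, (Nat.coprime_comm.1 ((hp.coprime_iff_not_dvd).2 fun hpj => hp.ne_one ?_))⟩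
  have : u * x * u⁻¹ = 1 := by
    rw [← hj]; exact orderOf_dvd_iff_pow_eq_one.1 (hy ▸ hpj)
  rw [← hx, orderOf_eq_one_iff]
  calc x = u⁻¹ * (u * x * u⁻¹) * u := by group
    _ = 1 := by rw [this]; group

theorem s_no_pq {p q : ℕ} (hp : p.Prime) (hq : q.Prime) (hpq : p ≠ q) (g : S) : orderOf g ≠ p * q := by
  intro hg
  have h1 : g ≠ 1 := fun e => by
    rw [e, orderOf_one] at hg
    have := hp.two_le; have := hq.two_le; nlinarith
  rcases Suzuki.centralizer_cases hF h1 with ⟨u, hu⟩ | ⟨-, hc⟩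
  · have h := Suzuki.orderOf_dvd_root hF hu
    rw [Suzuki.orderOf_conj_eq, hg] at h
    have hp2 : p = 2 := (Nat.prime_dvd_prime_iff_eq hp Nat.prime_two).1
      (hp.dvd_of_dvd_pow (n := 6) ((dvd_mul_right p q).trans (h.trans (by norm_num))))
    have hq2 : q = 2 := (Nat.prime_dvd_prime_iff_eq hq Nat.prime_two).1
      (hq.dvd_of_dvd_pow (n := 6) ((dvd_mul_left q p).trans (h.trans (by norm_num))))
    exact hpq (hp2.trans hq2.symm)
  · have h : p * q ∣ Nat.card (Subgroup.centralizer {g}) := by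
      rw [← hg, ← Subgroup.orderOf_mk g (Subgroup.mem_centralizer_singleton_iff.mpr rfl :
        g ∈ Subgroup.centralizer {g})]
      exact orderOf_dvd_natCard _
    have key : ∀ r : ℕ, r.Prime → p * q ∣ r → False := fun r hr hd =>
      hpq (((Nat.prime_dvd_prime_iff_eq hp hr).1 ((dvd_mul_right p q).trans hd)).trans
        ((Nat.prime_dvd_prime_iff_eq hq hr).1 ((dvd_mul_left q p).trans hd)).symm)
    simp only [Suzuki.torusOrders, Set.mem_insert_iff, Set.mem_singleton_iff] at hc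
    norm_num at hc
    rcases hc with hc | hc | hc <;> rw [hc] at h
    · exact key 7 (by norm_num) h
    · exact key 13 (by norm_num) h
    · exact key 5 (by norm_num) h

theorem no_twist {p : ℕ} (hp : p.Prime) (hd : ¬ p ^ 2 ∣ 29120) {Y x g : S} {e : C3} (hY : orderOf Y = p)
    (hx : orderOf x = p) (he : ∀ a : F8, a = (mat Y).trace → a ^ ex e ≠ a) : g * ψ e x ≠ x * g := by
  intro h
  obtain ⟨u, j, hu, hj⟩ := exists_conj_pow hp hd hx hY
  have hx' : x = u⁻¹ * Y ^ j * u := by rw [← hu]; group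
  have h' : (u * g * (ψ e u)⁻¹) * (ψ e Y) ^ j * (u * g * (ψ e u)⁻¹)⁻¹ = Y ^ j := by
    rw [← hu, ← map_pow, ← hu, map_mul, map_mul, map_inv]
    calc _ = u * (g * ψ e x) * g⁻¹ * u⁻¹ := by group
      _ = _ := by rw [h]; group
  obtain ⟨m, hm⟩ : ∃ m, j * m ≡ 1 [MOD p] :=
    ((Nat.exists_mul_mod_eq_one_of_coprime hj hp.one_lt).imp fun m hm => by
      show _ % p = 1 % p
      rw [hm.2, Nat.mod_eq_of_lt hp.one_lt])
  have hpow : ∀ z : S, orderOf z = p → (z ^ j) ^ m = z := fun z hz => by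
    rw [← pow_mul]
    conv_rhs => rw [← pow_one z]
    exact pow_eq_pow_iff_modEq.2 (by rwa [hz])
  have h'' := congrArg (fun z => z ^ m) h'
  simp only [conj_pow] at h''
  rw [hpow _ (by rw [MulEquiv.orderOf_eq, hY]), hpow _ hY] at h''
  obtain ⟨c, hc⟩ : ∃ c, u * g * (ψ e u)⁻¹ = c := ⟨_, rfl⟩
  rw [hc] at h''
  refine he _ rfl ?_
  have hinv : mat c⁻¹ * mat c = 1 := by
    show mat (c⁻¹ * c) = 1
    rw [inv_mul_cancel]; rfl
  have ht : (mat (c * ψ e Y * c⁻¹)).trace = (mat Y).trace := congrArg (fun z : S => (mat z).trace) h''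
  rw [show mat (c * ψ e Y * c⁻¹) = mat c * fm e (mat Y) * mat c⁻¹ from rfl, Matrix.trace_mul_comm,
    ← Matrix.mul_assoc, hinv, Matrix.one_mul] at ht
  refine Eq.trans ?_ ht
  show (∑ i, mat Y i i) ^ ex e = _
  exact pow_ex_sum e _

/-! ### `Sz(8) ⋊ 3` -/

theorem c3_cube (e : C3) : e ^ 3 = 1 := by
  revert e; decide +kernel

theorem l_eq_inl {l : L} {n : ℕ} (hn : ¬ 3 ∣ n) (h : l ^ n = 1) : l = inl l.left := by
  have h1 : l.right ^ n = 1 := by
    have := congrArg (rightHom : L →* C3) h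
    rwa [map_pow, map_one] at this
  have h2 : orderOf l.right = 1 := by
    have h3 := orderOf_dvd_of_pow_eq_one (c3_cube l.right)
    rcases (Nat.dvd_prime Nat.prime_three).1 h3 with h4 | h4
    · exact h4
    · exact absurd (h4 ▸ orderOf_dvd_of_pow_eq_one h1) hn
  ext
  · rfl
  · simp [orderOf_eq_one_iff.1 h2]

theorem l_no_pq {p q : ℕ} (hp : p.Prime) (hq : q.Prime) (hpq : p ≠ q) (h3 : ¬ 3 ∣ p * q) (l : L) :
    orderOf l ≠ p * q := by
  intro hl
  have := l_eq_inl h3 (hl ▸ pow_orderOf_eq_one l)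
  rw [this, orderOf_injective inl inl_injective] at hl
  exact s_no_pq hp hq hpq _ hl

theorem l_no_three {p : ℕ} (hp : p.Prime) (hp3 : p ≠ 3) (hd : ¬ p ^ 2 ∣ 29120) {Y : S} (hY : orderOf Y = p)
    (he : ∀ e : C3, e ≠ 1 → ∀ a : F8, a = (mat Y).trace → a ^ ex e ≠ a) (l : L) : orderOf l ≠ 3 * p := by
  intro hl
  have ha : orderOf (l ^ p) = 3 := by
    rw [orderOf_pow_of_dvd hp.ne_zero (hl ▸ dvd_mul_left p 3), hl, Nat.mul_div_cancel _ hp.pos]
  have hb : orderOf (l ^ 3) = p := by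
    rw [orderOf_pow_of_dvd three_ne_zero (hl ▸ dvd_mul_right 3 p), hl, Nat.mul_div_cancel_left _ three_pos]
  have h3p : ¬ 3 ∣ p := fun h => hp3 ((Nat.prime_dvd_prime_iff_eq Nat.prime_three hp).1 h).symm
  have hbi := l_eq_inl h3p (hb ▸ pow_orderOf_eq_one (l ^ 3))
  have hx : orderOf (l ^ 3).left = p := by
    rw [← orderOf_injective inl (inl_injective (φ := ψ)), ← hbi, hb]
  have hr : (l ^ p).right ≠ 1 := fun e => by
    have hai : l ^ p = inl (l ^ p).left := SemidirectProduct.ext rfl (by simp [e])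
    rw [hai, orderOf_injective inl inl_injective] at ha
    exact Suzuki.three_not_dvd hF (ha ▸ orderOf_dvd_natCard _)
  have hcomm : l ^ p * l ^ 3 = l ^ 3 * l ^ p := (Commute.refl l).pow_pow _ _
  have hl' := congrArg SemidirectProduct.left hcomm
  rw [hbi] at hl'
  simp only [mul_left, left_inl, right_inl, map_one, MulAut.one_apply] at hl'
  exact no_twist hp hd hY hx (he _ hr) hl'

/-! ### The extensions -/

variable {k : ℕ}

theorem toAdd_twNorm (l : L) (n : Vk k) (i : Fin k) :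
    Multiplicative.toAdd (Spectrum.twNorm (φ k) l n) i =
      ∑ a ∈ Finset.range (orderOf l), act (l ^ a) (Multiplicative.toAdd n i) := by
  rw [Spectrum.twNorm, toAdd_prod, Finset.sum_apply]
  rfl

theorem act_inl_pow {p : ℕ} [NeZero p] {y : S} {P : Fin p → M4} (h : IsPow y P) (a : ℕ) (X : M4) :
    act ((inl y : L) ^ a) X = P (Fin.ofNat p a) * X * (sq (P (Fin.ofNat p a)))ᵀ := by
  rw [← map_pow]
  show mat (y ^ a) * fm 1 X * (sq (mat (y ^ a)))ᵀ = _
  rw [fm_one, h.pow a]

theorem norm_inl {p : ℕ} [Fact p.Prime] {y : S} {P : Fin p → M4} (h : IsPow y P) (hy : orderOf y = p)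
    (n : Vk k) (i : Fin k) :
    Multiplicative.toAdd (Spectrum.twNorm (φ k) (inl y : L) n) i =
      ∑ a : Fin p, P a * Multiplicative.toAdd n i * (sq (P a))ᵀ := by
  rw [toAdd_twNorm, orderOf_injective inl inl_injective, hy, ← Fin.sum_univ_eq_sum_range]
  refine Finset.sum_congr rfl fun a _ => ?_
  rw [act_inl_pow h, show Fin.ofNat p (a : ℕ) = a from Fin.ext (by simp [Nat.mod_eq_of_lt a.2])]

theorem entry_norm {p : ℕ} (P : Fin p → M4) (X : M4) (a c : Fin 4) :
    (∑ i : Fin p, P i * X * (sq (P i))ᵀ) a c =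
      ∑ b : Fin 4, ∑ d : Fin 4, (∑ i : Fin p, P i a b * sq (P i) c d) * X b d := by
  rw [Matrix.sum_apply]
  simp only [Matrix.mul_apply, Matrix.transpose_apply, Finset.sum_mul]
  rw [Finset.sum_comm]
  conv_rhs => rw [Finset.sum_comm]
  refine Finset.sum_congr rfl fun d _ => ?_
  rw [Finset.sum_comm]
  exact Finset.sum_congr rfl fun b _ => Finset.sum_congr rfl fun i _ => by ring

theorem norm13_one (n : Vk k) : Spectrum.twNorm (φ k) (inl y13 : L) n = 1 := by
  refine Multiplicative.toAdd.injective (funext fun i => ?_)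
  rw [norm_inl isPow13 ord13]
  ext a c
  rw [entry_norm]
  simp [norm13 a _ c _]

theorem exists_two_mul {p : ℕ} [Fact p.Prime] {y : S} {P : Fin p → M4} (h : IsPow y P) (hy : orderOf y = p)
    {a b c d : Fin 4} (hne : ∑ i : Fin p, P i a b * sq (P i) c d ≠ 0) (hk : 0 < k) :
    ∃ x : Hk k, orderOf x = p * 2 := by
  refine ⟨⟨Multiplicative.ofAdd fun _ => Matrix.single b d 1, inl y⟩, ?_⟩
  rw [Spectrum.orderOf_eq_mul_of_norm_ne_one (φ k) _ _ Nat.prime_two (vk_sq k), orderOf_injective inl inl_injective,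
    hy]
  intro e
  have e' := congrFun (congrArg Multiplicative.toAdd e) ⟨0, hk⟩
  rw [norm_inl h hy] at e'
  have e'' := congrFun (congrFun e' a) c
  rw [entry_norm] at e''
  refine hne ?_
  rw [Finset.sum_eq_single b, Finset.sum_eq_single d] at e''
  · simpa [Matrix.single_apply] using e''
  all_goals simp +contextual [Matrix.single_apply, Ne.symm]

theorem exists_fifteen : ∃ x : L, orderOf x = 3 * 5 ∧ orderOf (x ^ 5) = 3 := by
  let s : L := inr (Multiplicative.ofAdd 1)
  have hs : orderOf s = 3 := by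
    rw [orderOf_injective inr inr_injective]
    exact orderOf_eq_prime (c3_cube _) (by decide)
  have hc : Commute s (inl y5 : L) := by
    show s * inl y5 = inl y5 * s
    ext <;> simp [s, fixed5]
  have hy : orderOf (inl y5 : L) = 5 := by rw [orderOf_injective inl inl_injective, ord5]
  have h15 : orderOf (s * inl y5) = 3 * 5 := by
    rw [hc.orderOf_mul_eq_mul_orderOf_of_coprime (by rw [hs, hy]; norm_num), hs, hy]
  refine ⟨_, h15, ?_⟩
  rw [orderOf_pow_of_dvd (by norm_num) (h15 ▸ dvd_mul_left 5 3), h15]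

theorem exists_six : ∃ x : L, orderOf x = 3 * 2 := by
  let s : L := inr (Multiplicative.ofAdd 1)
  have hs : orderOf s = 3 := by
    rw [orderOf_injective inr inr_injective]
    exact orderOf_eq_prime (c3_cube _) (by decide)
  have ht : orderOf (Suzuki.T hF (0 : F8) 1) = 2 := by
    refine orderOf_eq_prime ?_ fun e => ?_
    · rw [pow_two, Suzuki.T_mul]
      have h0 : (1 : F8) + 1 + Suzuki.θ 1 (0 : F8) * 0 = 0 := by rw [mul_zero, add_zero]; exact hF.add_self _
      rw [h0, add_zero, Suzuki.T_zero]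
    · rw [← Suzuki.T_zero hF] at e
      exact one_ne_zero (Suzuki.T_injective hF e).2
  have hf : ∀ e : C3, ψ e (Suzuki.T hF (0 : F8) 1) = Suzuki.T hF 0 1 := fun e => by
    refine (Suzuki.frobAut_T hF _ _ _).trans ?_
    rw [one_pow, zero_pow (pow_ne_zero _ two_ne_zero)]
  have hc : Commute s (inl (Suzuki.T hF (0 : F8) 1) : L) := by
    show s * inl _ = inl _ * s
    ext <;> simp [s, hf]
  have hy : orderOf (inl (Suzuki.T hF (0 : F8) 1) : L) = 2 := by rw [orderOf_injective inl inl_injective, ht]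
  refine ⟨s * (inl (Suzuki.T hF (0 : F8) 1) : L), ?_⟩
  rw [hc.orderOf_mul_eq_mul_orderOf_of_coprime (by rw [hs, hy]; norm_num), hs, hy]

theorem card_Hk : Nat.card (Hk k) = 2 ^ (48 * k) * (29120 * 3) := by
  rw [SemidirectProduct.card, SemidirectProduct.card, card_S]
  congr 1
  · rw [Nat.card_congr Multiplicative.toAdd, Nat.card_fun, Nat.card_eq_fintype_card, Nat.card_eq_fintype_card]
    show (Fintype.card (Fin 4 → Fin 4 → F8)) ^ Fintype.card (Fin k) = _
    rw [Fintype.card_fun, Fintype.card_fun, Fintype.card_fin, Fintype.card_fin, F8.card_eq, pow_mul]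
    norm_num
  · rw [Nat.card_congr Multiplicative.toAdd, Nat.card_zmod]

theorem prime_dvd_Hk (hk : 0 < k) {p : ℕ} (hp : p.Prime) :
    p ∣ Nat.card (Hk k) ↔ p ∈ [2, 3, 5, 7, 13] := by
  rw [card_Hk]
  constructor
  · intro h
    have hdiv : ∀ r : ℕ, r.Prime → p ∣ r → p = r := fun r hr hd => (Nat.prime_dvd_prime_iff_eq hp hr).1 hd
    rcases hp.dvd_mul.1 h with h | h
    · simp [hdiv 2 Nat.prime_two (hp.dvd_of_dvd_pow h)]
    rw [show (29120 * 3 : ℕ) = 2 ^ 6 * (5 * (7 * (13 * 3))) by norm_num] at h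
    rcases hp.dvd_mul.1 h with h | h
    · simp [hdiv 2 Nat.prime_two (hp.dvd_of_dvd_pow h)]
    rcases hp.dvd_mul.1 h with h | h
    · simp [hdiv 5 (by norm_num) h]
    rcases hp.dvd_mul.1 h with h | h
    · simp [hdiv 7 (by norm_num) h]
    rcases hp.dvd_mul.1 h with h | h
    · simp [hdiv 13 (by norm_num) h]
    · simp [hdiv 3 (by norm_num) h]
  · intro h
    simp only [List.mem_cons, List.not_mem_nil, or_false] at h
    rcases h with rfl | rfl | rfl | rfl | rfl <;> exact Dvd.dvd.mul_left (by norm_num) _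

theorem orderOf_pow_div {G : Type*} [Group G] [Finite G] {x : G} {d : ℕ} (h : d ∣ orderOf x) :
    ∃ y : G, orderOf y = d :=
  ⟨x ^ (orderOf x / d), orderOf_pow_orderOf_div (orderOf_pos x).ne' h⟩

theorem h_odd_lift {p q : ℕ} (hpq : Odd (p * q)) {x : Hk k} (hx : orderOf x = p * q) :
    orderOf x.right = p * q := by
  refine Nat.dvd_antisymm (hx ▸ Spectrum.orderOf_right_dvd (φ k) x.right x.left) ?_
  have h := hx ▸ Spectrum.orderOf_dvd_mul (φ k) x.right x.left (vk_sq k)
  exact (Nat.coprime_two_right.2 hpq).dvd_of_dvd_mul_right h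

theorem h_no_26 (x : Hk k) : orderOf x ≠ 2 * 13 := by
  intro hx
  obtain ⟨n, l⟩ := x
  have h1 : orderOf l ∣ 2 * 13 := hx ▸ Spectrum.orderOf_right_dvd (φ k) l n
  have h2 : 2 * 13 ∣ orderOf l * 2 := hx ▸ Spectrum.orderOf_dvd_mul (φ k) l n (vk_sq k)
  have h13 : orderOf l = 13 := by
    have : orderOf l ≠ 2 * 13 := l_no_pq Nat.prime_two (by norm_num) (by norm_num) (by norm_num) l
    have hle := Nat.le_of_dvd (by norm_num) h1
    interval_cases h : orderOf l <;> simp_all
  have hl := l_eq_inl (by norm_num : ¬ 3 ∣ 13) (h13 ▸ pow_orderOf_eq_one l)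
  rw [hl, orderOf_injective inl inl_injective] at h13
  obtain ⟨u, j, hu, hj⟩ := exists_conj_pow (by norm_num) (by norm_num) h13 ord13
  obtain ⟨m, hm, hmo⟩ : ∃ m, j * m ≡ 1 [MOD 13] ∧ Odd m := by
    obtain ⟨m, -, hm⟩ := Nat.exists_mul_mod_eq_one_of_coprime hj (by norm_num)
    have hm' : j * m ≡ 1 [MOD 13] := hm
    rcases Nat.even_or_odd m with he | ho
    · refine ⟨m + 13, ?_, he.add_odd (by decide)⟩
      rw [mul_add]
      exact (Nat.ModEq.add hm' ((Nat.modEq_zero_iff_dvd).2 (dvd_mul_left 13 j))).trans (by rfl)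
    · exact ⟨m, hm', ho⟩
  let z : Hk k := (inr (inl u) * ⟨n, l⟩ * (inr (inl u))⁻¹) ^ m
  have hzo : orderOf z = 2 * 13 := by
    have hc : orderOf (inr (inl u) * (⟨n, l⟩ : Hk k) * (inr (inl u))⁻¹) = 2 * 13 := by
      rw [Suzuki.orderOf_conj_eq, hx]
    show orderOf (_ ^ m) = _
    rw [Nat.Coprime.orderOf_pow, hc]
    rw [hc]
    refine Nat.Coprime.mul_left (Nat.coprime_two_left.2 hmo) ?_
    refine (Nat.Prime.coprime_iff_not_dvd (by norm_num)).2 fun hd => ?_
    have := (Nat.modEq_zero_iff_dvd).2 (hd.mul_left j)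
    exact absurd (hm.symm.trans this) (by decide)
  have hzr : z.right = inl y13 := by
    show (rightHom : Hk k →* L) z = _
    simp only [z, map_pow, map_mul, map_inv, rightHom_inr]
    show ((inl u : L) * l * (inl u : L)⁻¹) ^ m = _
    rw [hl, ← map_inv, ← map_mul, ← map_mul, hu, ← map_pow, ← pow_mul]
    congr 1
    conv_rhs => rw [← pow_one y13]
    exact pow_eq_pow_iff_modEq.2 (by rwa [ord13])
  have h := Spectrum.orderOf_eq_of_norm_eq_one (φ k) (inl y13) z.left (norm13_one _)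
  rw [show (⟨z.left, inl y13⟩ : Hk k) = z from SemidirectProduct.ext rfl hzr.symm, hzo,
    orderOf_injective inl inl_injective, ord13] at h
  norm_num at h

/-- The adjacency in the prime graph. -/
theorem adjacent_iff (hk : 0 < k) {p q : ℕ} (hp : p.Prime) (hq : q.Prime) (hpq : p ≠ q) :
    (∃ x : Hk k, orderOf x = p * q) ↔ p * q ∈ [6, 10, 14, 15] := by
  constructor
  · rintro ⟨x, hx⟩
    have hd : p * q ∣ Nat.card (Hk k) := hx ▸ orderOf_dvd_natCard x
    have hp' := (prime_dvd_Hk hk hp).1 ((dvd_mul_right p q).trans hd)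
    have hq' := (prime_dvd_Hk hk hq).1 ((dvd_mul_left q p).trans hd)
    have h3 : ∀ r : ℕ, r.Prime → r ≠ 3 → ¬ r ^ 2 ∣ 29120 → (∃ Y : S, orderOf Y = r ∧
        ∀ e : C3, e ≠ 1 → ∀ a : F8, a = (mat Y).trace → a ^ ex e ≠ a) → p * q = 3 * r → False := by
      rintro r hr hr3 hr2 ⟨Y, hY, he⟩ e
      have hro : Odd r := hr.odd_of_ne_two fun h2 => hr2 (by rw [h2]; norm_num)
      exact l_no_three hr hr3 hr2 hY he x.right (e ▸ h_odd_lift (e ▸ (by decide : Odd 3).mul hro) hx)
    have hodd : Odd (p * q) → ¬ 3 ∣ p * q → False := fun ho h3' =>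
      l_no_pq hp hq hpq h3' x.right (h_odd_lift ho hx)
    simp only [List.mem_cons, List.not_mem_nil, or_false] at hp' hq'
    rcases hp' with rfl | rfl | rfl | rfl | rfl <;> rcases hq' with rfl | rfl | rfl | rfl | rfl
    all_goals first
      | exact absurd rfl hpq
      | decide
      | exact (h_no_26 x (hx.trans (by decide))).elim
      | exact (hodd (by decide) (by decide)).elim
      | exact (h3 7 (by norm_num) (by norm_num) (by norm_num) ⟨z7, ord7, trace7⟩ (by decide)).elim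
      | exact (h3 13 (by norm_num) (by norm_num) (by norm_num) ⟨y13, ord13, trace13⟩ (by decide)).elim
  · intro h
    simp only [List.mem_cons, List.not_mem_nil, or_false] at h
    rcases h with h | h | h | h <;> rw [h]
    · obtain ⟨x, hx⟩ := exists_six
      exact ⟨inr x, by rw [orderOf_injective inr inr_injective, hx]⟩
    · exact exists_two_mul isPow5 ord5 norm5 hk
    · exact exists_two_mul isPow7 ord7 norm7 hk
    · obtain ⟨x, hx, -⟩ := exists_fifteen
      exact ⟨inr x, by rw [orderOf_injective inr inr_injective, hx]⟩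

end Cfsg.Agent.Sz83
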