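import Cfsg.Agent.Lib.PrimeGraphSz83.Field
import Cfsg.Agent.Lib.Suzuki.Tori
import Cfsg.Agent.Lib.Suzuki.Out
import Cfsg.Agent.Lib.Spectrum.Semidirect
import Mathlib.GroupTheory.SemidirectProduct

/-! The groups `V ⋊ (Sz(8) ⋊ 3)`, `V` a sum of copies of a twisted tensor square of the natural module. -/

set_option autoImplicit false

namespace Cfsg.Agent.Sz83

open Matrix

abbrev M4 := Matrix (Fin 4) (Fin 4) F8

theorem hF : Suzuki.SzField F8 1 := ⟨le_rfl, by rw [F8.card_eq]; rfl⟩

/-- The Suzuki group of order 29120. -/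
abbrev S := ↥(Cfsg.Sz F8 1)

abbrev C3 := Multiplicative (ZMod 3)

/-- The exponent of a field automorphism. -/
def ex (e : C3) : ℕ := 2 ^ (Multiplicative.toAdd e).val

/-- The entrywise field automorphism. -/
def fm (e : C3) (X : M4) : M4 := X.map fun x => x ^ ex e

/-- The underlying matrix. -/
abbrev mat (g : S) : M4 := g.1.1

theorem pow_ex_mul : ∀ (a b : C3) (x : F8), (x ^ ex b) ^ ex a = x ^ ex (a * b) := by
  have h : ∀ (a b : ZMod 3) (x : Fin 8), ((F8.mk x) ^ (2 ^ b.val)) ^ (2 ^ a.val) = (F8.mk x) ^ (2 ^ (a + b).val) := by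
    decide +kernel
  exact fun a b ⟨x⟩ => h a.toAdd b.toAdd x

theorem add_pow_ex : ∀ (a : C3) (x y : F8), (x + y) ^ ex a = x ^ ex a + y ^ ex a := by
  intro a x y
  exact Suzuki.frob_add hF _ x y

theorem fm_one (X : M4) : fm 1 X = X := by
  ext i j
  show (X i j) ^ 1 = X i j
  exact pow_one _

theorem fm_fm (a b : C3) (X : M4) : fm a (fm b X) = fm (a * b) X := by
  ext i j
  exact pow_ex_mul a b _

theorem fm_add (a : C3) (X Y : M4) : fm a (X + Y) = fm a X + fm a Y := by
  ext i j
  exact add_pow_ex a _ _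

theorem pow_ex_sum (a : C3) {ι : Type*} [Fintype ι] (f : ι → F8) : (∑ i, f i) ^ ex a = ∑ i, f i ^ ex a := by
  have := hF.charP
  exact sum_pow_char_pow 2 _ Finset.univ f

theorem fm_mul (a : C3) (X Y : M4) : fm a (X * Y) = fm a X * fm a Y := by
  ext i j
  show (∑ k, X i k * Y k j) ^ ex a = _
  rw [pow_ex_sum]
  simp only [mul_pow]
  rfl

theorem fm_transpose (a : C3) (X : M4) : fm a Xᵀ = (fm a X)ᵀ := rfl

theorem fm_one_mat (a : C3) : fm a 1 = 1 := by
  ext i j
  show (1 : M4) i j ^ ex a = (1 : M4) i j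
  by_cases h : i = j
  · subst h; simp
  · simp [Matrix.one_apply_ne h, zero_pow (pow_ne_zero _ (two_ne_zero : (2 : ℕ) ≠ 0)), ex]

/-- The Frobenius squaring. -/
abbrev sq (X : M4) : M4 := fm (Multiplicative.ofAdd 1) X

/-- Field automorphisms of the Suzuki group. -/
noncomputable def ψ : C3 →* MulAut S where
  toFun e := Suzuki.frobAut hF (Multiplicative.toAdd e).val
  map_one' := MulEquiv.ext fun g => Subtype.ext (Subtype.ext (fm_one (mat g)))
  map_mul' a b := MulEquiv.ext fun g => Subtype.ext (Subtype.ext (fm_fm a b (mat g)).symm)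

theorem mat_ψ (e : C3) (g : S) : mat (ψ e g) = fm e (mat g) := rfl

/-- `Sz(8) ⋊ 3`. -/
abbrev L := S ⋊[ψ] C3

/-- The action on the tensor square. -/
def act (l : L) (X : M4) : M4 := mat l.left * fm l.right X * (sq (mat l.left))ᵀ

theorem act_add (l : L) (X Y : M4) : act l (X + Y) = act l X + act l Y := by
  simp only [act, fm_add, Matrix.mul_add, Matrix.add_mul]

theorem act_one (X : M4) : act 1 X = X := by
  show (1 : M4) * fm 1 X * (sq 1)ᵀ = X
  rw [fm_one, sq, fm_one_mat, Matrix.transpose_one, Matrix.one_mul, Matrix.mul_one]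

theorem act_mul (l l' : L) (X : M4) : act (l * l') X = act l (act l' X) := by
  show mat (l.left * ψ l.right l'.left) * fm (l.right * l'.right) X *
      (sq (mat (l.left * ψ l.right l'.left)))ᵀ = _
  have hm : mat (l.left * ψ l.right l'.left) = mat l.left * fm l.right (mat l'.left) := rfl
  rw [hm]
  simp only [act, sq, fm_mul, fm_transpose, fm_fm, Matrix.transpose_mul, mul_comm (Multiplicative.ofAdd (1 : ZMod 3)) l.right,
    Matrix.mul_assoc]

variable (k : ℕ)

/-- The module. -/
abbrev Vk := Multiplicative (Fin k → M4)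

/-- The action on the module. -/
noncomputable def φ : L →* MulAut (Vk k) where
  toFun l :=
    { toFun := fun v => Multiplicative.ofAdd fun i => act l (Multiplicative.toAdd v i)
      invFun := fun v => Multiplicative.ofAdd fun i => act l⁻¹ (Multiplicative.toAdd v i)
      left_inv := fun v => funext fun i => by
        show act l⁻¹ (act l (v i)) = v i
        rw [← act_mul, inv_mul_cancel, act_one]
      right_inv := fun v => funext fun i => by
        show act l (act l⁻¹ (v i)) = v i
        rw [← act_mul, mul_inv_cancel, act_one]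
      map_mul' := fun v w => funext fun i => act_add l (v i) (w i) }
  map_one' := MulEquiv.ext fun v => funext fun i => act_one (v i)
  map_mul' l l' := MulEquiv.ext fun v => funext fun i => act_mul l l' (v i)

/-- The groups. -/
abbrev Hk := Vk k ⋊[φ k] L

theorem vk_sq (v : Vk k) : v ^ 2 = 1 := by
  rw [pow_two]
  funext i
  ext a b
  exact hF.add_self _

end Cfsg.Agent.Sz83
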