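import Cfsg.Agent.Lib.Classical.PrimeGraphSp
import Cfsg.Agent.Lib.Spectra.PrimeGraphBC

/-! The prime graph of `PSp(6,3)`. -/

set_option autoImplicit false

namespace Cfsg.Agent.Sz83.PSp63

open Module
open SkewTransfer (movW fixX mem_fixX presX presW restrE orderOf_split restrE_mem formOn)
open LinearMap (BilinForm)

variable {F : Type*} [Field F] [Fintype F]

theorem exists_pow_div {G : Type*} [Group G] [Finite G] {x : G} {d : ℕ} (h : d ∣ orderOf x) :
    ∃ y : G, orderOf y = d :=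
  ⟨x ^ (orderOf x / d), orderOf_pow_orderOf_div (orderOf_pos x).ne' h⟩

theorem two_ne_zero' [CharP F 3] : (2 : F) ≠ 0 := fun h => by
  have := (CharP.cast_eq_zero_iff F 3 2).1 (by exact_mod_cast h)
  norm_num at this

theorem ord_eq (hF : Fintype.card F = 3) :
    orderOf ((Fintype.card F : ℕ) : ZMod 5) = 4 ∧ orderOf ((Fintype.card F : ℕ) : ZMod 7) = 6 ∧
      orderOf ((Fintype.card F : ℕ) : ZMod 13) = 3 := by
  rw [hF]
  exact ⟨(orderOf_eq_iff (by norm_num)).2 (by decide), (orderOf_eq_iff (by norm_num)).2 (by decide),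
    (orderOf_eq_iff (by norm_num)).2 (by decide)⟩

theorem finite_psp : Finite (Cfsg.PSp 3 F) := inferInstance

/-- The elements needed. -/
theorem exists_30_14_13 [CharP F 3] (hF : Fintype.card F = 3) :
    (∃ g : Cfsg.PSp 3 F, 30 ∣ orderOf g) ∧ (∃ g : Cfsg.PSp 3 F, orderOf g = 14) ∧
      (∃ g : Cfsg.PSp 3 F, orderOf g = 13) := by
  refine ⟨?_, ?_, ?_⟩
  · obtain ⟨g, hg⟩ := (SympSpectra.exists_psp_tori (F := F) (n := 3) 3 two_ne_zero' (by decide) (d := 2)
      (by norm_num) (by norm_num) 5 (Or.inr (by rw [hF]; norm_num))).1 (by norm_num)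
    refine ⟨g, ?_⟩
    rw [hg]
    have h3 : 3 ∣ 3 ^ Nat.clog 3 (2 * (3 - 2)) := dvd_pow_self 3 (Nat.clog_pos (by norm_num) (by norm_num)).ne'
    show 10 * 3 ∣ _
    exact Nat.Coprime.mul_dvd_of_dvd_of_dvd (by norm_num) (Nat.dvd_lcm_left _ _) (h3.trans (Nat.dvd_lcm_right _ _))
  · exact (SympSpectra.exists_psp_tori (F := F) (n := 3) 3 two_ne_zero' (by decide) (d := 3)
      (by norm_num) le_rfl 14 (Or.inr (by rw [hF]; norm_num))).2 rfl
  · exact (SympSpectra.exists_psp_tori (F := F) (n := 3) 3 two_ne_zero' (by decide) (d := 3)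
      (by norm_num) le_rfl 13 (Or.inl (by rw [hF]; norm_num))).2 rfl

theorem prime_dvd_iff (hF : Fintype.card F = 3) {r : ℕ} (hr : r.Prime) :
    r ∣ Nat.card (Cfsg.PSp 3 F) ↔ r ∈ [2, 3, 5, 7, 13] := by
  haveI : Fact (Nat.Prime 3) := ⟨Nat.prime_three⟩
  haveI : CharP F 3 := charP_of_card_eq_prime hF
  constructor
  · intro h
    by_cases h3 : r = 3
    · simp [h3]
    obtain ⟨η, hη⟩ : ∃ η, (Odd (orderOf ((Fintype.card F : ℕ) : ZMod r)) ∧ η = orderOf ((Fintype.card F : ℕ) : ZMod r)) ∨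
        (Even (orderOf ((Fintype.card F : ℕ) : ZMod r)) ∧ 2 * η = orderOf ((Fintype.card F : ℕ) : ZMod r)) := by
      rcases Nat.even_or_odd (orderOf ((Fintype.card F : ℕ) : ZMod r)) with ⟨c, hc⟩ | ho
      · exact ⟨c, Or.inr ⟨⟨c, hc⟩, by omega⟩⟩
      · exact ⟨_, Or.inl ⟨ho, rfl⟩⟩
    obtain ⟨h0, h3', hd⟩ := PrimeGraphSp.eta_le 3 hr h3 h hη
    have := (PrimeGraphPSL.orderOf_zmod_dvd_iff Fintype.card_pos).1 hd
    rw [hF] at this
    have hdiv : ∀ s : ℕ, s.Prime → r ∣ s → r = s := fun s hs hd => (Nat.prime_dvd_prime_iff_eq hr hs).1 hd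
    have h2 : ∀ c : ℕ, r ∣ 2 ^ c → r = 2 := fun c h => hdiv 2 Nat.prime_two (hr.dvd_of_dvd_pow h)
    interval_cases η
    · simp [h2 3 (by simpa using this)]
    · rw [show 3 ^ (2 * 2) - 1 = 2 ^ 4 * 5 by norm_num] at this
      rcases hr.dvd_mul.1 this with h | h
      · simp [h2 _ h]
      · simp [hdiv 5 (by norm_num) h]
    · rw [show 3 ^ (2 * 3) - 1 = 2 ^ 3 * (7 * 13) by norm_num] at this
      rcases hr.dvd_mul.1 this with h | h
      · simp [h2 _ h]
      rcases hr.dvd_mul.1 h with h | h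
      · simp [hdiv 7 (by norm_num) h]
      · simp [hdiv 13 (by norm_num) h]
  · intro h
    obtain ⟨⟨g, hg⟩, ⟨g', hg'⟩, ⟨g'', hg''⟩⟩ := exists_30_14_13 hF
    have h1 : 30 ∣ Nat.card (Cfsg.PSp 3 F) := hg.trans (orderOf_dvd_natCard g)
    have h2 : 14 ∣ Nat.card (Cfsg.PSp 3 F) := hg' ▸ orderOf_dvd_natCard g'
    have h3 : 13 ∣ Nat.card (Cfsg.PSp 3 F) := hg'' ▸ orderOf_dvd_natCard g''
    simp only [List.mem_cons, List.not_mem_nil, or_false] at h
    rcases h with rfl | rfl | rfl | rfl | rfl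
    exacts [(by norm_num : 2 ∣ 30).trans h1, (by norm_num : 3 ∣ 30).trans h1, (by norm_num : 5 ∣ 30).trans h1,
      (by norm_num : 7 ∣ 14).trans h2, h3]

theorem no_pq_odd (hF : Fintype.card F = 3) {x : Cfsg.PSp 3 F} :
    orderOf x ≠ 7 * 3 ∧ orderOf x ≠ 13 * 3 ∧ orderOf x ≠ 5 * 7 ∧ orderOf x ≠ 5 * 13 ∧ orderOf x ≠ 7 * 13 := by
  haveI : Fact (Nat.Prime 3) := ⟨Nat.prime_three⟩
  haveI : CharP F 3 := charP_of_card_eq_prime hF
  obtain ⟨o5, o7, o13⟩ := ord_eq hF
  refine ⟨fun h => ?_, fun h => ?_, fun h => ?_, fun h => ?_, fun h => ?_⟩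
  · exact lt_irrefl 3 (PrimeGraphSp.rp_necessary 3 (by norm_num) (by norm_num) (by norm_num) (by norm_num) h
      (a := 3) (Or.inr (by rw [o7]; decide)))
  · exact lt_irrefl 3 (PrimeGraphSp.rp_necessary 3 (by norm_num) (by norm_num) (by norm_num) (by norm_num) h
      (a := 3) (Or.inl (by rw [o13]; decide)))
  · have := PrimeGraphSp.rs_necessary 3 (by norm_num) (by norm_num) (by norm_num) (by norm_num) (by norm_num)
      (by norm_num) h (a := 2) (b := 3) (by norm_num) (by norm_num) (by norm_num)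
      (Or.inr (by rw [o5]; decide)) (Or.inr (by rw [o7]; decide))
      (by rintro ⟨t, -, ht⟩; rw [o7, o5] at ht; omega)
    omega
  · have := PrimeGraphSp.rs_necessary 3 (by norm_num) (by norm_num) (by norm_num) (by norm_num) (by norm_num)
      (by norm_num) h (a := 2) (b := 3) (by norm_num) (by norm_num) (by norm_num)
      (Or.inr (by rw [o5]; decide)) (Or.inl (by rw [o13]; decide))
      (by rintro ⟨t, -, ht⟩; rw [o13, o5] at ht; omega)
    omega
  · have := PrimeGraphSp.rs_necessary 3 (by norm_num) (by norm_num) (by norm_num) (by norm_num) (by norm_num)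
      (by norm_num) h (a := 3) (b := 3) (by norm_num) (by norm_num) (by norm_num)
      (Or.inr (by rw [o7]; decide)) (Or.inl (by rw [o13]; decide))
      (by rintro ⟨t, -, ht⟩; rw [o13, o7] at ht; omega)
    omega

set_option maxHeartbeats 1600000 in
theorem no_26 (hF : Fintype.card F = 3) (x : Cfsg.PSp 3 F) : orderOf x ≠ 2 * 13 := by
  intro hx
  haveI : Fact (Nat.Prime 3) := ⟨Nat.prime_three⟩
  haveI : CharP F 3 := charP_of_card_eq_prime hF
  have h2 : (2 : F) ≠ 0 := two_ne_zero'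
  have hs : (13 : ℕ).Prime := by norm_num
  haveI : Fact (Nat.Prime 13) := ⟨hs⟩
  have hsF : ((13 : ℕ) : F) ≠ 0 := fun h => by
    have := (CharP.cast_eq_zero_iff F 3 13).1 h
    norm_num at this
  have hnd : ¬ 13 ∣ Nat.card (Matrix.symplecticGroup (Fin (3 - 1)) F) := by
    rw [ClassicalSp.card_sp, Nat.card_eq_fintype_card, hF]
    simp [Finset.prod_range_succ]
  obtain ⟨A, rfl⟩ := QuotientGroup.mk_surjective x
  obtain ⟨g₀, hg₀⟩ : ∃ g, ClassicalSp.toEquiv A = g := ⟨_, rfl⟩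
  have hg : g₀ ∈ AltForm.isoGroup (ClassicalSp.spBilin 3 F) := hg₀ ▸ ClassicalSp.toEquiv_mem A
  have key : ∀ k : ℕ, (QuotientGroup.mk A : Cfsg.PSp 3 F) ^ k = 1 ↔
      g₀ ^ k = 1 ∨ g₀ ^ k = LinearEquiv.neg F := fun k => by
    rw [← QuotientGroup.mk_pow, SympSpectra.mk_eq_one_iff (by omega), ← hg₀, ← map_pow]
    constructor
    · rintro (e | e)
      · exact Or.inl (LinearEquiv.ext fun v => by rw [ClassicalSp.toEquiv_apply, e, Matrix.one_mulVec]; rfl)
      · exact Or.inr (LinearEquiv.ext fun v => by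
          rw [ClassicalSp.toEquiv_apply, e, Matrix.neg_mulVec, Matrix.one_mulVec]; rfl)
    · rintro (e | e)
      · exact Or.inl (Matrix.ext_iff_mulVec.2 fun v => by
          rw [← ClassicalSp.toEquiv_apply, e, Matrix.one_mulVec]; rfl)
      · exact Or.inr (Matrix.ext_iff_mulVec.2 fun v => by
          rw [← ClassicalSp.toEquiv_apply, e, Matrix.neg_mulVec, Matrix.one_mulVec]; rfl)
  obtain ⟨t, htd⟩ : ∃ t, g₀ ^ 4 = t := ⟨_, rfl⟩
  obtain ⟨z, hzd⟩ : ∃ z, g₀ ^ 13 = z := ⟨_, rfl⟩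
  have hpowne : ∀ k : ℕ, ¬ 2 * 13 ∣ k → g₀ ^ k ≠ 1 ∧ g₀ ^ k ≠ LinearEquiv.neg F := fun k hk =>
    ⟨fun e => hk (hx ▸ orderOf_dvd_of_pow_eq_one ((key k).2 (Or.inl e))),
      fun e => hk (hx ▸ orderOf_dvd_of_pow_eq_one ((key k).2 (Or.inr e)))⟩
  have h2spow := (key (2 * 13)).1 (by rw [← hx, pow_orderOf_eq_one])
  have htr : t ^ 13 = 1 := by
    rw [← htd, ← pow_mul, show 4 * 13 = 2 * 13 * 2 by norm_num, pow_mul]
    rcases h2spow with e | e <;> rw [e]
    · exact one_pow 2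
    · rw [pow_two, PrimeGraphBC.neg_mul_neg]
  have ht1 : t ≠ 1 := htd ▸ (hpowne 4 (by norm_num)).1
  have hts : orderOf t = 13 := orderOf_eq_prime htr ht1
  have htm : t ∈ AltForm.isoGroup (ClassicalSp.spBilin 3 F) := htd ▸ pow_mem hg 4
  have hzm : z ∈ AltForm.isoGroup (ClassicalSp.spBilin 3 F) := hzd ▸ pow_mem hg 13
  have hzt : Commute z t := hzd ▸ htd ▸ Commute.pow_pow (Commute.refl g₀) 13 4
  have hz0 : z ≠ 1 ∧ z ≠ LinearEquiv.neg F := hzd ▸ hpowne 13 (by norm_num)
  have hzz : z * z = 1 ∨ z * z = LinearEquiv.neg F := by rw [← hzd, ← pow_add]; exact h2spow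
  have hA := ClassicalSp.spBilin_isAlt (m := 3) (F := F)
  obtain ⟨hc, hX, hW⟩ := SkewTransfer.split (B := ClassicalSp.spBilin 3 F) ClassicalSp.spBilin_nondeg.1
    (PrimeGraphBC.href_alt hA) htm hsF htr
  have hfix : ∀ v, t v = v → v = 0 := by
    intro v hv
    have hWdim : finrank F (movW t) = 2 * 3 := by
      obtain ⟨a, ha⟩ := PrimeGraphBC.exists_half (B := formOn (ClassicalSp.spBilin 3 F) (movW t))
        (fun x => hA x.1) hW
      have hle := (movW t).finrank_le
      rw [ClassicalSp.finrank_space] at hle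
      by_contra hne
      refine hnd ?_
      have hord := orderOf_split hc t (presX (Commute.refl t)) (presW (Commute.refl t))
      rw [show restrE (fixX t) t (presX (Commute.refl t)) = 1 from LinearEquiv.ext fun u =>
        Subtype.ext (mem_fixX.1 u.2), orderOf_one, Nat.lcm_one_left, hts] at hord
      rw [hord]
      exact PrimeGraphBC.dvd_of_alt (B := formOn (ClassicalSp.spBilin 3 F) (movW t)) (fun x => hA x.1) hW
        (restrE_mem htm (presW (Commute.refl t))) (by omega)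
    have hX0 : fixX t = ⊥ := by
      have := Submodule.finrank_add_eq_of_isCompl hc
      rw [hWdim, ClassicalSp.finrank_space] at this
      exact Submodule.finrank_eq_zero.1 (by omega)
    have := mem_fixX.2 hv
    rwa [hX0, Submodule.mem_bot] at this
  have hz2 : z * z = LinearEquiv.neg F := hzz.resolve_left fun e => by
    rcases PrimeGraphBC.invol_eq h2 hA ClassicalSp.spBilin_nondeg.1 htm ClassicalSp.finrank_space.le
      hs htr hfix hnd hzm hzt e with e | e
    · exact hz0.1 e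
    · exact hz0.2 e
  -- a totally isotropic invariant half
  obtain ⟨o5, o7, o13⟩ := ord_eq hF
  let T : Module.End F (Fin 3 ⊕ Fin 3 → F) := t.toLinearMap
  have hT : T ^ 13 = 1 := by
    show (LinearEquiv.automorphismGroup.toLinearMapMonoidHom t) ^ 13 = 1
    rw [← map_pow, htr, map_one]
  obtain ⟨v, -, hv0, U, -, hvU, hTU, hUle, -⟩ := PrimeGraphSp.exists_cyclic hs hT
    (W := ⊤) (fun _ _ => trivial) top_ne_bot (by rw [o13]; norm_num)
  have hUd : finrank F U = 3 := by
    have hd := PrimeGraphPSL.orderOf_dvd_finrank hs hT hTU fun w _ h => hfix w h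
    rw [o13] at hd hUle
    have hpos : 0 < finrank F U := Nat.pos_of_ne_zero fun h0 => by
      rw [Submodule.finrank_eq_zero] at h0
      exact hv0 (by rw [h0] at hvU; exact hvU)
    have := Nat.le_of_dvd hpos hd
    omega
  have hno := PrimeGraphSp.no_invariant_form hs (by norm_num) (PrimeGraphPSL.pow_restrict_eq_one hT hTU)
    (fun w hw => Subtype.ext (hfix w (congrArg Subtype.val hw))) (by rw [hUd]; decide) (by rw [o13, hUd])
  have hUU := hno ((ClassicalSp.spBilin 3 F).restrict U) fun a b => htm a b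
  have hUz := hno ((ClassicalSp.spBilin 3 F).comp U.subtype (z.toLinearMap ∘ₗ U.subtype)) fun a b => by
    show ClassicalSp.spBilin 3 F (t a) (z (t b)) = ClassicalSp.spBilin 3 F a (z b)
    rw [show z (t b) = t (z b) from LinearEquiv.congr_fun hzt.eq b, htm]
  have hdimO : finrank F ((ClassicalSp.spBilin 3 F).orthogonal U) = 3 := by
    rw [LinearMap.BilinForm.finrank_orthogonal ClassicalSp.spBilin_nondeg, ClassicalSp.finrank_space, hUd]
  have hUeq : U = (ClassicalSp.spBilin 3 F).orthogonal U :=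
    Submodule.eq_of_le_of_finrank_eq (fun m hm n hn => LinearMap.congr_fun (LinearMap.congr_fun hUU ⟨n, hn⟩) ⟨m, hm⟩)
      (by rw [hUd, hdimO])
  have hzU : ∀ b ∈ U, z.toLinearMap b ∈ U := fun b hb => by
    rw [hUeq]
    exact fun n hn => LinearMap.congr_fun (LinearMap.congr_fun hUz ⟨n, hn⟩) ⟨b, hb⟩
  let Z : U →ₗ[F] U := z.toLinearMap.restrict hzU
  have hZ : Z * Z = (-1 : F) • LinearMap.id := LinearMap.ext fun u => Subtype.ext (by
    show z (z u) = _
    rw [show z (z u) = -(u : Fin 3 ⊕ Fin 3 → F) from LinearEquiv.congr_fun hz2 u]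
    simp)
  have hdet := congrArg LinearMap.det hZ
  rw [map_mul, LinearMap.det_smul, LinearMap.det_id, mul_one, hUd] at hdet
  have hsq : IsSquare (-1 : F) := ⟨LinearMap.det Z, by rw [hdet]; ring⟩
  exact FiniteField.isSquare_neg_one_iff.1 hsq (by rw [hF])

theorem adjacent_iff (hF : Fintype.card F = 3) {p q : ℕ} (hp : p.Prime) (hq : q.Prime) (hpq : p ≠ q) :
    (∃ x : Cfsg.PSp 3 F, orderOf x = p * q) ↔ p * q ∈ [6, 10, 14, 15] := by
  haveI : Fact (Nat.Prime 3) := ⟨Nat.prime_three⟩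
  haveI : CharP F 3 := charP_of_card_eq_prime hF
  constructor
  · rintro ⟨x, hx⟩
    have hd : p * q ∣ Nat.card (Cfsg.PSp 3 F) := hx ▸ orderOf_dvd_natCard x
    have hp' := (prime_dvd_iff hF hp).1 ((dvd_mul_right p q).trans hd)
    have hq' := (prime_dvd_iff hF hq).1 ((dvd_mul_left q p).trans hd)
    obtain ⟨n21, n39, n35, n65, n91⟩ := no_pq_odd hF (x := x)
    have n26 := no_26 hF x
    simp only [List.mem_cons, List.not_mem_nil, or_false] at hp' hq'
    rcases hp' with rfl | rfl | rfl | rfl | rfl <;> rcases hq' with rfl | rfl | rfl | rfl | rfl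
    all_goals first
      | decide
      | exact absurd rfl hpq
      | (norm_num at hx n21 n39 n35 n65 n91 n26; omega)
  · intro h
    obtain ⟨⟨g, hg⟩, ⟨g', hg'⟩, -⟩ := exists_30_14_13 hF
    simp only [List.mem_cons, List.not_mem_nil, or_false] at h
    rcases h with h | h | h | h <;> rw [h]
    exacts [exists_pow_div ((by norm_num : 6 ∣ 30).trans hg), exists_pow_div ((by norm_num : 10 ∣ 30).trans hg),
      ⟨g', hg'⟩, exists_pow_div ((by norm_num : 15 ∣ 30).trans hg)]

end Cfsg.Agent.Sz83.PSp63
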