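import Cfsg.Agent.Lib.PrimeGraphSz83.Group

/-! Powers of three elements of `Sz(8)`. -/

set_option autoImplicit false

namespace Cfsg.Agent.Sz83

/-- powers -/
def y13Pow : Fin 13 → M4 :=
  ![!![⟨1⟩, ⟨0⟩, ⟨0⟩, ⟨0⟩; ⟨0⟩, ⟨1⟩, ⟨0⟩, ⟨0⟩; ⟨0⟩, ⟨0⟩, ⟨1⟩, ⟨0⟩; ⟨0⟩, ⟨0⟩, ⟨0⟩, ⟨1⟩],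
    !![⟨0⟩, ⟨0⟩, ⟨0⟩, ⟨1⟩; ⟨0⟩, ⟨0⟩, ⟨1⟩, ⟨0⟩; ⟨0⟩, ⟨1⟩, ⟨0⟩, ⟨3⟩; ⟨1⟩, ⟨0⟩, ⟨3⟩, ⟨7⟩],
    !![⟨1⟩, ⟨0⟩, ⟨3⟩, ⟨7⟩; ⟨0⟩, ⟨1⟩, ⟨0⟩, ⟨3⟩; ⟨3⟩, ⟨0⟩, ⟨4⟩, ⟨2⟩; ⟨7⟩, ⟨3⟩, ⟨2⟩, ⟨7⟩],
    !![⟨7⟩, ⟨3⟩, ⟨2⟩, ⟨7⟩; ⟨3⟩, ⟨0⟩, ⟨4⟩, ⟨2⟩; ⟨2⟩, ⟨4⟩, ⟨6⟩, ⟨1⟩; ⟨7⟩, ⟨2⟩, ⟨1⟩, ⟨2⟩],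
    !![⟨7⟩, ⟨2⟩, ⟨1⟩, ⟨2⟩; ⟨2⟩, ⟨4⟩, ⟨6⟩, ⟨1⟩; ⟨1⟩, ⟨6⟩, ⟨7⟩, ⟨4⟩; ⟨2⟩, ⟨1⟩, ⟨4⟩, ⟨1⟩],
    !![⟨2⟩, ⟨1⟩, ⟨4⟩, ⟨1⟩; ⟨1⟩, ⟨6⟩, ⟨7⟩, ⟨4⟩; ⟨4⟩, ⟨7⟩, ⟨1⟩, ⟨2⟩; ⟨1⟩, ⟨4⟩, ⟨2⟩, ⟨2⟩],
    !![⟨1⟩, ⟨4⟩, ⟨2⟩, ⟨2⟩; ⟨4⟩, ⟨7⟩, ⟨1⟩, ⟨2⟩; ⟨2⟩, ⟨1⟩, ⟨1⟩, ⟨2⟩; ⟨2⟩, ⟨2⟩, ⟨2⟩, ⟨2⟩],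
    !![⟨2⟩, ⟨2⟩, ⟨2⟩, ⟨2⟩; ⟨2⟩, ⟨1⟩, ⟨1⟩, ⟨2⟩; ⟨2⟩, ⟨1⟩, ⟨7⟩, ⟨4⟩; ⟨2⟩, ⟨2⟩, ⟨4⟩, ⟨1⟩],
    !![⟨2⟩, ⟨2⟩, ⟨4⟩, ⟨1⟩; ⟨2⟩, ⟨1⟩, ⟨7⟩, ⟨4⟩; ⟨4⟩, ⟨7⟩, ⟨6⟩, ⟨1⟩; ⟨1⟩, ⟨4⟩, ⟨1⟩, ⟨2⟩],
    !![⟨1⟩, ⟨4⟩, ⟨1⟩, ⟨2⟩; ⟨4⟩, ⟨7⟩, ⟨6⟩, ⟨1⟩; ⟨1⟩, ⟨6⟩, ⟨4⟩, ⟨2⟩; ⟨2⟩, ⟨1⟩, ⟨2⟩, ⟨7⟩],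
    !![⟨2⟩, ⟨1⟩, ⟨2⟩, ⟨7⟩; ⟨1⟩, ⟨6⟩, ⟨4⟩, ⟨2⟩; ⟨2⟩, ⟨4⟩, ⟨0⟩, ⟨3⟩; ⟨7⟩, ⟨2⟩, ⟨3⟩, ⟨7⟩],
    !![⟨7⟩, ⟨2⟩, ⟨3⟩, ⟨7⟩; ⟨2⟩, ⟨4⟩, ⟨0⟩, ⟨3⟩; ⟨3⟩, ⟨0⟩, ⟨1⟩, ⟨0⟩; ⟨7⟩, ⟨3⟩, ⟨0⟩, ⟨1⟩],
    !![⟨7⟩, ⟨3⟩, ⟨0⟩, ⟨1⟩; ⟨3⟩, ⟨0⟩, ⟨1⟩, ⟨0⟩; ⟨0⟩, ⟨1⟩, ⟨0⟩, ⟨0⟩; ⟨1⟩, ⟨0⟩, ⟨0⟩, ⟨0⟩]]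

/-- powers -/
def y5Pow : Fin 5 → M4 :=
  ![!![⟨1⟩, ⟨0⟩, ⟨0⟩, ⟨0⟩; ⟨0⟩, ⟨1⟩, ⟨0⟩, ⟨0⟩; ⟨0⟩, ⟨0⟩, ⟨1⟩, ⟨0⟩; ⟨0⟩, ⟨0⟩, ⟨0⟩, ⟨1⟩],
    !![⟨0⟩, ⟨0⟩, ⟨0⟩, ⟨1⟩; ⟨0⟩, ⟨0⟩, ⟨1⟩, ⟨0⟩; ⟨0⟩, ⟨1⟩, ⟨0⟩, ⟨1⟩; ⟨1⟩, ⟨0⟩, ⟨1⟩, ⟨1⟩],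
    !![⟨1⟩, ⟨0⟩, ⟨1⟩, ⟨1⟩; ⟨0⟩, ⟨1⟩, ⟨0⟩, ⟨1⟩; ⟨1⟩, ⟨0⟩, ⟨0⟩, ⟨1⟩; ⟨1⟩, ⟨1⟩, ⟨1⟩, ⟨1⟩],
    !![⟨1⟩, ⟨1⟩, ⟨1⟩, ⟨1⟩; ⟨1⟩, ⟨0⟩, ⟨0⟩, ⟨1⟩; ⟨1⟩, ⟨0⟩, ⟨1⟩, ⟨0⟩; ⟨1⟩, ⟨1⟩, ⟨0⟩, ⟨1⟩],
    !![⟨1⟩, ⟨1⟩, ⟨0⟩, ⟨1⟩; ⟨1⟩, ⟨0⟩, ⟨1⟩, ⟨0⟩; ⟨0⟩, ⟨1⟩, ⟨0⟩, ⟨0⟩; ⟨1⟩, ⟨0⟩, ⟨0⟩, ⟨0⟩]]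

/-- powers -/
def z7Pow : Fin 7 → M4 :=
  ![!![⟨1⟩, ⟨0⟩, ⟨0⟩, ⟨0⟩; ⟨0⟩, ⟨1⟩, ⟨0⟩, ⟨0⟩; ⟨0⟩, ⟨0⟩, ⟨1⟩, ⟨0⟩; ⟨0⟩, ⟨0⟩, ⟨0⟩, ⟨1⟩],
    !![⟨3⟩, ⟨0⟩, ⟨0⟩, ⟨0⟩; ⟨0⟩, ⟨4⟩, ⟨0⟩, ⟨0⟩; ⟨0⟩, ⟨0⟩, ⟨7⟩, ⟨0⟩; ⟨0⟩, ⟨0⟩, ⟨0⟩, ⟨6⟩],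
    !![⟨5⟩, ⟨0⟩, ⟨0⟩, ⟨0⟩; ⟨0⟩, ⟨6⟩, ⟨0⟩, ⟨0⟩; ⟨0⟩, ⟨0⟩, ⟨3⟩, ⟨0⟩; ⟨0⟩, ⟨0⟩, ⟨0⟩, ⟨2⟩],
    !![⟨4⟩, ⟨0⟩, ⟨0⟩, ⟨0⟩; ⟨0⟩, ⟨5⟩, ⟨0⟩, ⟨0⟩; ⟨0⟩, ⟨0⟩, ⟨2⟩, ⟨0⟩; ⟨0⟩, ⟨0⟩, ⟨0⟩, ⟨7⟩],
    !![⟨7⟩, ⟨0⟩, ⟨0⟩, ⟨0⟩; ⟨0⟩, ⟨2⟩, ⟨0⟩, ⟨0⟩; ⟨0⟩, ⟨0⟩, ⟨5⟩, ⟨0⟩; ⟨0⟩, ⟨0⟩, ⟨0⟩, ⟨4⟩],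
    !![⟨2⟩, ⟨0⟩, ⟨0⟩, ⟨0⟩; ⟨0⟩, ⟨3⟩, ⟨0⟩, ⟨0⟩; ⟨0⟩, ⟨0⟩, ⟨6⟩, ⟨0⟩; ⟨0⟩, ⟨0⟩, ⟨0⟩, ⟨5⟩],
    !![⟨6⟩, ⟨0⟩, ⟨0⟩, ⟨0⟩; ⟨0⟩, ⟨7⟩, ⟨0⟩, ⟨0⟩; ⟨0⟩, ⟨0⟩, ⟨4⟩, ⟨0⟩; ⟨0⟩, ⟨0⟩, ⟨0⟩, ⟨3⟩]]

end Cfsg.Agent.Sz83
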